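import Cfsg.Agent.H419.EP.Iface

/-!
# S3499: the socle of `A` in the residual class (helper419)
-/

set_option autoImplicit false

namespace Cfsg.Agent.H419.EP

open Subgroup Cfsg.Agent.H284
open scoped MatrixGroups commutatorElement

/-- `A` is almost simple with socle `≅ L` (when `L` is simple nonabelian). -/
def HasSoc {Q : Type*} [Group Q] (A : Subgroup Q) (L : Type*) [Group L] : Prop :=
  ∃ N : Subgroup Q, N ≤ A ∧ (∀ a ∈ A, ∀ n ∈ N, a * n * a⁻¹ ∈ N) ∧ (∀ a ∈ A, (∀ n ∈ N, a * n = n * a) → a = 1) ∧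
    Nonempty (N ≃* L)

theorem HasSoc.congr {Q : Type*} [Group Q] {A : Subgroup Q} {L L' : Type*} [Group L] [Group L'] (h : HasSoc A L)
    (e : L ≃* L') : HasSoc A L' := by
  obtain ⟨N, h1, h2, h3, ⟨f⟩⟩ := h
  exact ⟨N, h1, h2, h3, ⟨f.trans e⟩⟩

/-- `A` embeds in `Aut L` -/
theorem HasSoc.exists_hom {Q : Type*} [Group Q] {A : Subgroup Q} {L : Type*} [Group L] (h : HasSoc A L) :
    ∃ f : A →* MulAut L, Function.Injective f := by
  obtain ⟨N, h1, h2, h3, ⟨e⟩⟩ := h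
  have hn : ((N.subgroupOf A)).Normal := ⟨by
    rintro ⟨n, hn'⟩ hn ⟨a, ha⟩
    exact h2 a ha n hn⟩
  let g : A →* MulAut (N.subgroupOf A) := MulAut.conjNormal
  let E : (N.subgroupOf A) ≃* L := (Subgroup.subgroupOfEquivOfLe h1).trans e
  refine ⟨(MulAut.congr E).toMonoidHom.comp g, ?_⟩
  refine (MulAut.congr E).injective.comp ?_
  rw [injective_iff_map_eq_one]
  rintro ⟨a, ha⟩ hga
  apply Subtype.ext
  apply h3 a ha
  intro n hn
  have h4 := DFunLike.congr_fun hga ⟨⟨n, h1 hn⟩, hn⟩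
  have h5 : a * n * a⁻¹ = n := by
    have := congrArg (fun y : (N.subgroupOf A) => ((y : A) : Q)) h4
    simpa [g, MulAut.conjNormal_apply] using this
  rw [mul_inv_eq_iff_eq_mul] at h5
  exact h5

theorem HasSoc.card_le {Q : Type*} [Group Q] {A : Subgroup Q} {L : Type*} [Group L] [Finite L] (h : HasSoc A L) :
    Nat.card A ≤ Nat.card (MulAut L) := by
  obtain ⟨f, hf⟩ := h.exists_hom
  exact Nat.card_le_card_of_injective f hf

theorem HasSoc.card_dvd {Q : Type*} [Group Q] {A : Subgroup Q} {L : Type*} [Group L] (h : HasSoc A L) :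
    Nat.card L ∣ Nat.card A := by
  obtain ⟨N, h1, _, _, ⟨e⟩⟩ := h
  rw [← Nat.card_congr e.toEquiv]
  exact Subgroup.card_dvd_of_le h1

/-- `A` has no abelian normal subgroup `≠ 1` when `L` is simple and nonabelian -/
theorem HasSoc.no_abelian {Q : Type*} [Group Q] {A : Subgroup Q} {L : Type*} [Group L] (h : HasSoc A L)
    (hL : IsSimpleGroup L) (hLn : ¬ ∀ a b : L, a * b = b * a) {K : Subgroup Q} (hK : K ≤ A)
    (hKn : ∀ a ∈ A, ∀ k ∈ K, a * k * a⁻¹ ∈ K) (hKab : ∀ a ∈ K, ∀ b ∈ K, a * b = b * a) : K = ⊥ := by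
  obtain ⟨N, h1, h2, h3, ⟨e⟩⟩ := h
  have hNs : IsSimpleGroup N := by
    haveI := hL
    exact e.isSimpleGroup
  have hn : ((K ⊓ N).subgroupOf N).Normal := ⟨by
    rintro ⟨n, hn'⟩ hn ⟨a, ha⟩
    exact ⟨hKn a (h1 ha) n hn.1, N.mul_mem (N.mul_mem ha hn') (N.inv_mem ha)⟩⟩
  rcases hn.eq_bot_or_eq_top with h4 | h4
  · -- K centralises N
    rw [Subgroup.eq_bot_iff_forall]
    intro k hk
    apply h3 k (hK hk)
    intro n hn'
    have h5 : k * n * k⁻¹ * n⁻¹ ∈ K ⊓ N := by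
      refine ⟨?_, ?_⟩
      · have : k * n * k⁻¹ * n⁻¹ = k * (n * k⁻¹ * n⁻¹) := by group
        rw [this]
        exact K.mul_mem hk (hKn n (h1 hn') _ (K.inv_mem hk))
      · exact N.mul_mem (h2 k (hK hk) n hn') (N.inv_mem hn')
    have h6 : (⟨k * n * k⁻¹ * n⁻¹, h5.2⟩ : N) ∈ (K ⊓ N).subgroupOf N := h5
    rw [h4, mem_bot] at h6
    have h7 : k * n * k⁻¹ * n⁻¹ = 1 := congrArg Subtype.val h6
    rw [mul_inv_eq_one, mul_inv_eq_iff_eq_mul] at h7
    exact h7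
  · exfalso
    apply hLn
    intro a b
    have h5 : ∀ x : N, (x : Q) ∈ K := by
      intro x
      have h6 : x ∈ (K ⊓ N).subgroupOf N := by rw [h4]; exact mem_top _
      exact (mem_inf.1 h6).1
    apply e.symm.injective
    rw [map_mul, map_mul]
    apply Subtype.ext
    exact hKab _ (h5 _) _ (h5 _)

/-- **The bridge**: the residual core gives the socle of `A`. -/
theorem hasSoc_of_core {Q : Type*} [Group Q] {A : Subgroup Q} {ι : Type} [Fintype ι] [DecidableEq ι] {F : Type*}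
    [Field F] {S : Subgroup (GL ι F)} (m : Model Q S) {P : Subgroup (GL ι F)}
    (hP : Cfsg.Geo.IsResidualCore (m.hat A) P) : HasSoc A (P ⧸ (Cfsg.Geo.scalars ι F).subgroupOf P) := by
  have hPS : P ≤ S := hP.le.trans (m.hat_le A)
  let f : P →* Q := m.π.comp (Subgroup.inclusion hPS)
  have hf : ∀ p : P, f p = m.π ⟨p, hPS p.2⟩ := fun p => rfl
  have hker : f.ker = (Cfsg.Geo.scalars ι F).subgroupOf P := by
    ext p
    rw [MonoidHom.mem_ker, hf, m.ker]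
    rfl
  refine ⟨f.range, ?_, ?_, ?_, ?_⟩
  · rintro _ ⟨p, rfl⟩
    exact (m.mem_hat_iff ⟨p, hPS p.2⟩).1 (hP.le p.2)
  · rintro a ha _ ⟨p, rfl⟩
    obtain ⟨s, rfl⟩ := m.surj a
    have hs : (s : GL ι F) ∈ m.hat A := (m.mem_hat_iff s).2 ha
    refine ⟨⟨s * p * (s : GL ι F)⁻¹, hP.normal _ hs _ p.2⟩, ?_⟩
    rw [hf, hf, ← map_mul, ← map_inv, ← map_mul]
    rfl
  · intro a ha hc
    obtain ⟨s, rfl⟩ := m.surj a
    have hs : (s : GL ι F) ∈ m.hat A := (m.mem_hat_iff s).2 ha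
    rw [m.ker]
    apply hP.centralizer_scalar _ hs
    intro x hx
    have h1 := hc (f ⟨x, hx⟩) ⟨⟨x, hx⟩, rfl⟩
    have h2 : m.π (s * ⟨x, hPS hx⟩ * s⁻¹ * ⟨x, hPS hx⟩⁻¹) = 1 := by
      rw [map_mul, map_mul, map_mul, map_inv, map_inv]
      rw [hf] at h1
      rw [h1]
      group
    exact (m.ker _).1 h2
  · exact ⟨((QuotientGroup.quotientMulEquivOfEq hker).symm.trans (QuotientGroup.quotientKerEquivRange f)).symm⟩

end Cfsg.Agent.H419.EP
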