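import Cfsg.Agent.H284.EP.TForm
import Cfsg.Prelude.Def_GeometricClasses

/-!
# S3499, the common interface (helper419) on top of helper284's `EPT A Γ`

* `Model Q S` : a surjection `π : S → Q` from a classical matrix group `S ≤ GL(ι, F)` (one of `Geo.specialLinear`,
  `spGL m F`, `GU n F q ⊓ Geo.specialLinear`, `Geo.omegaGL Qf`) onto the simple group `Q` with kernel the scalars of `S`;
* `m.hat A` : the preimage of `A ≤ Q` as a subgroup of `GL(ι, F)`;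
* `NoEP S A` : `A` is the preimage of no stabiliser `A` in an extremely primitive group with socle `Q = S/scalars`.
-/

set_option autoImplicit false

namespace Cfsg.Agent.H419.EP

open Subgroup Cfsg.Agent.H284
open scoped MatrixGroups commutatorElement

section Model

variable {Q : Type*} [Group Q] {ι : Type} [Fintype ι] [DecidableEq ι] {F : Type*} [Field F]

/-- A surjection from the matrix group `S` onto `Q` with kernel the scalars in `S`. -/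
structure Model (Q : Type*) [Group Q] {ι : Type} [Fintype ι] [DecidableEq ι] {F : Type*} [Field F]
    (S : Subgroup (GL ι F)) where
  π : S →* Q
  surj : Function.Surjective π
  ker : ∀ s : S, π s = 1 ↔ (s : GL ι F) ∈ Cfsg.Geo.scalars ι F

namespace Model

variable {S : Subgroup (GL ι F)} (m : Model Q S)

/-- the preimage of `A` -/
def hat (A : Subgroup Q) : Subgroup (GL ι F) := (A.comap m.π).map S.subtype

theorem mem_hat {A : Subgroup Q} {g : GL ι F} : g ∈ m.hat A ↔ ∃ hg : g ∈ S, m.π ⟨g, hg⟩ ∈ A := by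
  constructor
  · rintro ⟨s, hs, rfl⟩
    exact ⟨s.2, hs⟩
  · rintro ⟨hg, h⟩
    exact ⟨⟨g, hg⟩, h, rfl⟩

theorem hat_le (A : Subgroup Q) : m.hat A ≤ S := by
  intro g hg
  exact (m.mem_hat.1 hg).1

theorem mem_hat_iff {A : Subgroup Q} (s : S) : (s : GL ι F) ∈ m.hat A ↔ m.π s ∈ A := by
  rw [m.mem_hat]
  constructor
  · rintro ⟨_, h⟩
    exact h
  · intro h
    exact ⟨s.2, h⟩

theorem scal_le (A : Subgroup Q) : Cfsg.Geo.scalars ι F ⊓ S ≤ m.hat A := by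
  intro g hg
  refine m.mem_hat.2 ⟨hg.2, ?_⟩
  rw [(m.ker ⟨g, hg.2⟩).2 hg.1]
  exact A.one_mem

theorem π_eq_iff (s t : S) : m.π s = m.π t ↔ ∃ z ∈ Cfsg.Geo.scalars ι F, (s : GL ι F) = t * z := by
  constructor
  · intro h
    have h1 : m.π (t⁻¹ * s) = 1 := by rw [map_mul, map_inv, h, inv_mul_cancel]
    refine ⟨_, (m.ker _).1 h1, ?_⟩
    push_cast
    group
  · rintro ⟨z, hz, e⟩
    have h1 : m.π (t⁻¹ * s) = 1 := by
      rw [m.ker]
      push_cast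
      rw [e]
      have : (t : GL ι F)⁻¹ * ((t : GL ι F) * z) = z := by group
      rw [this]
      exact hz
    rw [map_mul, map_inv, inv_mul_eq_one] at h1
    exact h1.symm

theorem hat_inf (A B : Subgroup Q) : m.hat (A ⊓ B) = m.hat A ⊓ m.hat B := by
  ext g
  rw [mem_inf, m.mem_hat, m.mem_hat, m.mem_hat]
  constructor
  · rintro ⟨hg, h1, h2⟩
    exact ⟨⟨hg, h1⟩, ⟨hg, h2⟩⟩
  · rintro ⟨⟨hg, h1⟩, ⟨_, h2⟩⟩
    exact ⟨hg, h1, h2⟩

theorem hat_mono {A B : Subgroup Q} (h : A ≤ B) : m.hat A ≤ m.hat B := by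
  intro g hg
  obtain ⟨h1, h2⟩ := m.mem_hat.1 hg
  exact m.mem_hat.2 ⟨h1, h h2⟩

/-- conjugation -/
theorem hat_cj (A : Subgroup Q) (s : S) : m.hat (cj (m.π s) A) = cj (s : GL ι F) (m.hat A) := by
  ext g
  rw [mem_cj, m.mem_hat, m.mem_hat]
  constructor
  · rintro ⟨hg, h1⟩
    rw [mem_cj] at h1
    refine ⟨S.mul_mem (S.mul_mem (S.inv_mem s.2) hg) s.2, ?_⟩
    have e : (⟨(s : GL ι F)⁻¹ * g * s, S.mul_mem (S.mul_mem (S.inv_mem s.2) hg) s.2⟩ : S) = s⁻¹ * ⟨g, hg⟩ * s := rfl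
    rw [e, map_mul, map_mul, map_inv]
    exact h1
  · rintro ⟨hg, h1⟩
    have hg' : g ∈ S := by
      have : g = (s : GL ι F) * ((s : GL ι F)⁻¹ * g * s) * (s : GL ι F)⁻¹ := by group
      rw [this]
      exact S.mul_mem (S.mul_mem s.2 hg) (S.inv_mem s.2)
    refine ⟨hg', ?_⟩
    rw [mem_cj]
    have e : (⟨(s : GL ι F)⁻¹ * g * s, hg⟩ : S) = s⁻¹ * ⟨g, hg'⟩ * s := rfl
    rw [e, map_mul, map_mul, map_inv] at h1
    exact h1

/-- the image of a subgroup between the scalars and `S` -/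
theorem hat_map (K : Subgroup (GL ι F)) (hK : K ≤ S) (hz : Cfsg.Geo.scalars ι F ⊓ S ≤ K) :
    m.hat ((K.subgroupOf S).map m.π) = K := by
  ext g
  rw [m.mem_hat]
  constructor
  · rintro ⟨hg, k, hk, e⟩
    obtain ⟨z, hz', e2⟩ := (m.π_eq_iff ⟨g, hg⟩ k).1 e.symm
    have hz2 : z ∈ S := by
      have : z = (k : GL ι F)⁻¹ * g := by rw [show g = (k : GL ι F) * z from e2]; group
      rw [this]
      exact S.mul_mem (S.inv_mem k.2) hg
    rw [show g = (k : GL ι F) * z from e2]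
    exact K.mul_mem hk (hz ⟨hz', hz2⟩)
  · intro hg
    exact ⟨hK hg, ⟨g, hK hg⟩, hg, rfl⟩

theorem map_hat (A : Subgroup Q) : ((m.hat A).subgroupOf S).map m.π = A := by
  ext t
  constructor
  · rintro ⟨s, hs, rfl⟩
    exact (m.mem_hat_iff s).1 hs
  · intro h1
    obtain ⟨s, rfl⟩ := m.surj t
    exact ⟨s, (m.mem_hat_iff s).2 h1, rfl⟩

theorem hat_injective : Function.Injective m.hat := fun A B h => by rw [← m.map_hat A, h, m.map_hat]

theorem hat_top : m.hat ⊤ = S := by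
  ext g
  rw [m.mem_hat]
  exact ⟨fun ⟨hg, _⟩ => hg, fun hg => ⟨hg, mem_top _⟩⟩

/-- the preimage of a maximal subgroup of `Q` is maximal in `S` -/
theorem isMaximalIn {A : Subgroup Q} (hA : IsCoatom A) : Cfsg.Geo.IsMaximalIn S (m.hat A) := by
  refine ⟨lt_of_le_of_ne (m.hat_le A) ?_, ?_⟩
  · intro e
    exact hA.1 (m.hat_injective (e.trans m.hat_top.symm))
  · intro M h1 h2
    have hz : Cfsg.Geo.scalars ι F ⊓ S ≤ M := (m.scal_le A).trans h1
    have e1 := m.hat_map M h2 hz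
    have h3 : A ≤ (M.subgroupOf S).map m.π := by
      rw [← m.map_hat A]
      exact Subgroup.map_mono (fun s hs => h1 hs)
    by_cases h4 : (M.subgroupOf S).map m.π = A
    · left
      rw [← e1, h4]
    · right
      rw [← e1, hA.2 _ (lt_of_le_of_ne h3 (Ne.symm h4)), m.hat_top]

/-- proper modulo scalars (the form used by S5630 etc.) -/
theorem sup_ne {A : Subgroup Q} (hA : IsCoatom A) : m.hat A ⊔ (Cfsg.Geo.scalars ι F ⊓ S) ≠ S := by
  rw [sup_eq_left.2 (m.scal_le A)]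
  exact (m.isMaximalIn hA).1.ne

/-- the model of `Q` gives one of every isomorphic group -/
def trans {Q' : Type*} [Group Q'] (e : Q ≃* Q') : Model Q' S where
  π := e.toMonoidHom.comp m.π
  surj := e.surjective.comp m.surj
  ker := fun s => by
    rw [← m.ker s]
    exact map_eq_one_iff e.toMonoidHom e.injective

end Model

end Model

section facts

variable {Q : Type*} [Group Q] [Finite Q] {A : Subgroup Q} {Γ : Subgroup (MulAut Q)} (h : EPT A Γ)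
variable {ι : Type} [Fintype ι] [DecidableEq ι] {F : Type*} [Field F] {S : Subgroup (GL ι F)} (m : Model Q S)

include h

/-- `M0 ≠ 1` -/
theorem exists_nonscalar {x : GL ι F} (hxS : x ∈ S) (hx : x ∉ m.hat A) :
    ∃ s, s ∈ m.hat A ⊓ cj x (m.hat A) ∧ s ∉ Cfsg.Geo.scalars ι F := by
  have hx' : m.π ⟨x, hxS⟩ ∉ A := fun e => hx ((m.mem_hat_iff ⟨x, hxS⟩).2 e)
  have h1 := h.M0 _ hx'
  obtain ⟨g, hg, hg1⟩ : ∃ g ∈ A ⊓ cj (m.π ⟨x, hxS⟩) A, g ≠ 1 := by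
    by_contra hcon
    push Not at hcon
    exact h1 ((Subgroup.eq_bot_iff_forall _).2 hcon)
  obtain ⟨s, rfl⟩ := m.surj g
  refine ⟨s, ?_, fun e => hg1 ((m.ker s).2 e)⟩
  rw [← m.hat_cj A ⟨x, hxS⟩, ← m.hat_inf]
  exact (m.mem_hat_iff s).2 hg

omit h in
theorem map_le_M0 {x : GL ι F} (hxS : x ∈ S) {K : Subgroup (GL ι F)} (hKM : K ≤ m.hat A ⊓ cj x (m.hat A)) :
    (K.subgroupOf S).map m.π ≤ A ⊓ cj (m.π ⟨x, hxS⟩) A := by
  rintro _ ⟨k, hk, rfl⟩
  have := hKM hk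
  rw [← m.hat_cj A ⟨x, hxS⟩, ← m.hat_inf] at this
  exact (m.mem_hat_iff k).1 this

omit h in
theorem M0_eq_map {x : GL ι F} (hxS : x ∈ S) :
    A ⊓ cj (m.π ⟨x, hxS⟩) A = ((m.hat A ⊓ cj x (m.hat A)).subgroupOf S).map m.π := by
  rw [← m.hat_cj A ⟨x, hxS⟩, ← m.hat_inf, m.map_hat]

/-- **Kill criterion (K)**: for `x ∈ S`, `x ∉ Â`, a subgroup `K` of `M̂0 = Â ∩ Â^x`, not scalar, whose image is
characteristic in `M0`; every `g ∈ Â` normalising `K` lies in `Â^x`. -/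
theorem kill_char {x : GL ι F} (hxS : x ∈ S) (hx : x ∉ m.hat A) (K : Subgroup (GL ι F))
    (hKM : K ≤ m.hat A ⊓ cj x (m.hat A)) (hKn : ¬ K ≤ Cfsg.Geo.scalars ι F)
    (hKc : (((K.subgroupOf S).map m.π).subgroupOf (A ⊓ cj (m.π ⟨x, hxS⟩) A)).Characteristic)
    {g : GL ι F} (hg : g ∈ m.hat A) (hgK : ∀ k ∈ K, g * k * g⁻¹ ∈ K) : g ∈ cj x (m.hat A) := by
  have hx' : m.π ⟨x, hxS⟩ ∉ A := fun e => hx ((m.mem_hat_iff ⟨x, hxS⟩).2 e)
  obtain ⟨hgS, hgA⟩ := m.mem_hat.1 hg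
  have hle := map_le_M0 m hxS hKM
  have hsub : (((K.subgroupOf S).map m.π).subgroupOf (A ⊓ cj (m.π ⟨x, hxS⟩) A)).map (Subgroup.subtype _) =
      (K.subgroupOf S).map m.π := by
    rw [Subgroup.subgroupOf_map_subtype, inf_eq_left.2 hle]
  have h1 := h.norm_char hx' (((K.subgroupOf S).map m.π).subgroupOf (A ⊓ cj (m.π ⟨x, hxS⟩) A)) ?_ hgA ?_
  · rw [← m.hat_cj A ⟨x, hxS⟩]
    exact m.mem_hat.2 ⟨hgS, h1⟩
  · intro e
    apply hKn
    intro k hk
    have hkS : k ∈ S := m.hat_le A (mem_inf.1 (hKM hk)).1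
    rw [← m.ker ⟨k, hkS⟩]
    have h2 : m.π ⟨k, hkS⟩ ∈ (K.subgroupOf S).map m.π := ⟨⟨k, hkS⟩, hk, rfl⟩
    rw [← hsub, e, Subgroup.map_bot, mem_bot] at h2
    exact h2
  · rw [hsub]
    rintro _ ⟨k, hk, rfl⟩
    refine ⟨⟨g, hgS⟩ * k * ⟨g, hgS⟩⁻¹, hgK _ hk, ?_⟩
    rw [map_mul, map_mul, map_inv]

/-- **Kill criterion for the derived group of `M̂0`** -/
theorem kill_comm {x : GL ι F} (hxS : x ∈ S) (hx : x ∉ m.hat A)
    (hKn : ¬ ⁅m.hat A ⊓ cj x (m.hat A), m.hat A ⊓ cj x (m.hat A)⁆ ≤ Cfsg.Geo.scalars ι F)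
    {g : GL ι F} (hg : g ∈ m.hat A)
    (hgK : ∀ k ∈ ⁅m.hat A ⊓ cj x (m.hat A), m.hat A ⊓ cj x (m.hat A)⁆,
      g * k * g⁻¹ ∈ ⁅m.hat A ⊓ cj x (m.hat A), m.hat A ⊓ cj x (m.hat A)⁆) : g ∈ cj x (m.hat A) := by
  set M := m.hat A ⊓ cj x (m.hat A) with hM
  have hMS : M ≤ S := inf_le_left.trans (m.hat_le A)
  refine kill_char h m hxS hx ⁅M, M⁆ (Subgroup.commutator_le_self _) hKn ?_ hg hgK
  have e : ((⁅M, M⁆).subgroupOf S).map m.π = ⁅A ⊓ cj (m.π ⟨x, hxS⟩) A, A ⊓ cj (m.π ⟨x, hxS⟩) A⁆ := by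
    rw [M0_eq_map m hxS, ← Subgroup.map_commutator, ← hM]
    congr 1
    apply Subgroup.map_injective S.subtype_injective
    rw [Subgroup.subgroupOf_map_subtype, Subgroup.map_commutator, Subgroup.subgroupOf_map_subtype,
      inf_eq_left.2 hMS, inf_eq_left.2 ((Subgroup.commutator_le_self _).trans hMS)]
  rw [e]
  have e2 : (⁅A ⊓ cj (m.π ⟨x, hxS⟩) A, A ⊓ cj (m.π ⟨x, hxS⟩) A⁆).subgroupOf (A ⊓ cj (m.π ⟨x, hxS⟩) A) =
      commutator (A ⊓ cj (m.π ⟨x, hxS⟩) A : Subgroup Q) := by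
    apply Subgroup.map_injective (Subgroup.subtype_injective _)
    rw [Subgroup.subgroupOf_map_subtype, inf_eq_left.2 (Subgroup.commutator_le_self _), commutator_def,
      Subgroup.map_commutator, ← MonoidHom.range_eq_map, Subgroup.range_subtype]
  rw [e2]
  infer_instance

/-- `M0` is abelian only if `A` has an abelian `Γ`-invariant subgroup `K ≠ 1` -/
theorem abelian_M0 {x : GL ι F} (hxS : x ∈ S) (hx : x ∉ m.hat A)
    (hKn : ⁅m.hat A ⊓ cj x (m.hat A), m.hat A ⊓ cj x (m.hat A)⁆ ≤ Cfsg.Geo.scalars ι F) :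
    ∃ K : Subgroup Q, K ≤ A ∧ (∀ σ ∈ Γ, ∀ k ∈ K, σ k ∈ K) ∧ K ≠ ⊥ ∧ ∀ a ∈ K, ∀ b ∈ K, a * b = b * a := by
  have hx' : m.π ⟨x, hxS⟩ ∉ A := fun e => hx ((m.mem_hat_iff ⟨x, hxS⟩).2 e)
  apply h.abM0 _ hx'
  rw [M0_eq_map m hxS]
  rintro _ ⟨a, ha, rfl⟩ _ ⟨b, hb, rfl⟩
  have h1 : ((⁅a, b⁆ : S) : GL ι F) ∈ Cfsg.Geo.scalars ι F := hKn (Subgroup.commutator_mem_commutator ha hb)
  rw [← m.ker, map_commutatorElement, commutatorElement_eq_one_iff_mul_comm] at h1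
  exact h1

/-- number of points: `|S : Â| ≤ r²` -/
theorem index_le : A.index ≤ {M : Subgroup Q | ∃ x, x ∉ A ∧ M = A ⊓ cj x A}.ncard ^ 2 := h.index_le

end facts

/-- **NoEP**: `A` is the preimage of no point stabiliser of an extremely primitive group whose socle is `S` modulo
scalars. -/
def NoEP.{u} {ι : Type} [Fintype ι] [DecidableEq ι] {F : Type*} [Field F] (S A : Subgroup (GL ι F)) : Prop :=
  ∀ (Q : Type u) [Group Q] [Finite Q] (B : Subgroup Q) (Γ : Subgroup (MulAut Q)), IsSimpleGroup Q → EPT B Γ →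
    ∀ m : Model Q S, m.hat B = A → False

end Cfsg.Agent.H419.EP
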