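import Cfsg.Agent.H419.EP.Iface

/-!
# S3499: the targets (helper419)

Eight target statements (everything at `Type 0`), and the final assembly `main_of` from them (file `Final.lean`).
-/

set_option autoImplicit false

namespace Cfsg.Agent.H419.EP

open Subgroup Cfsg.Agent.H284
open scoped MatrixGroups

/-- linear, not residual -/
def PslNonRes : Prop := ∀ {Q : Type} [Group Q] [Finite Q], IsSimpleGroup Q → ∀ {A : Subgroup Q}
    {Γ : Subgroup (MulAut Q)}, EPT A Γ → ∀ {F : Type} [Field F] [Fintype F] {n : ℕ}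
    (m : Model Q (Cfsg.Geo.specialLinear (Fin n) F)), 3 ≤ n → ¬ (n = 3 ∧ Fintype.card F = 2) →
    ¬ (n = 3 ∧ Fintype.card F = 4) → ¬ (n = 4 ∧ Fintype.card F = 2) → ¬ Cfsg.Geo.InLinearResidualClass (m.hat A) → False

/-- linear, residual -/
def PslRes : Prop := ∀ {Q : Type} [Group Q] [Finite Q], IsSimpleGroup Q → ∀ {A : Subgroup Q}
    {Γ : Subgroup (MulAut Q)}, EPT A Γ → ∀ {F : Type} [Field F] [Fintype F] {n : ℕ}
    (m : Model Q (Cfsg.Geo.specialLinear (Fin n) F)), 3 ≤ n → ¬ (n = 3 ∧ Fintype.card F = 2) →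
    ¬ (n = 3 ∧ Fintype.card F = 4) → ¬ (n = 4 ∧ Fintype.card F = 2) → Cfsg.Geo.InLinearResidualClass (m.hat A) → False

/-- symplectic, not residual (`q = 2` is a conclusion of S3499 and excluded) -/
def PspNonRes : Prop := ∀ {Q : Type} [Group Q] [Finite Q], IsSimpleGroup Q → ∀ {A : Subgroup Q}
    {Γ : Subgroup (MulAut Q)}, EPT A Γ → ∀ {F : Type} [Field F] [Fintype F] {k : ℕ}
    (m : Model Q (Cfsg.spGL k F)), 2 ≤ k → 3 ≤ Fintype.card F → ¬ Cfsg.Geo.InSymplecticResidualClass (m.hat A) → False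

/-- symplectic, residual -/
def PspRes : Prop := ∀ {Q : Type} [Group Q] [Finite Q], IsSimpleGroup Q → ∀ {A : Subgroup Q}
    {Γ : Subgroup (MulAut Q)}, EPT A Γ → ∀ {F : Type} [Field F] [Fintype F] {k : ℕ}
    (m : Model Q (Cfsg.spGL k F)), 2 ≤ k → 3 ≤ Fintype.card F → Cfsg.Geo.InSymplecticResidualClass (m.hat A) → False

/-- unitary, not residual -/
def PsuNonRes : Prop := ∀ {Q : Type} [Group Q] [Finite Q], IsSimpleGroup Q → ∀ {A : Subgroup Q}
    {Γ : Subgroup (MulAut Q)}, EPT A Γ → ∀ {F : Type} [Field F] [Fintype F] {n q : ℕ}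
    (m : Model Q (Cfsg.GU n F q ⊓ Cfsg.Geo.specialLinear (Fin n) F)), Fintype.card F = q ^ 2 → 3 ≤ n →
    ¬ (n = 3 ∧ q = 2) → ¬ (n = 4 ∧ q = 3) → ¬ Cfsg.Geo.InUnitaryResidualClass (m.hat A) → False

/-- unitary, residual -/
def PsuRes : Prop := ∀ {Q : Type} [Group Q] [Finite Q], IsSimpleGroup Q → ∀ {A : Subgroup Q}
    {Γ : Subgroup (MulAut Q)}, EPT A Γ → ∀ {F : Type} [Field F] [Fintype F] {n q : ℕ}
    (m : Model Q (Cfsg.GU n F q ⊓ Cfsg.Geo.specialLinear (Fin n) F)), Fintype.card F = q ^ 2 → 3 ≤ n →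
    ¬ (n = 3 ∧ q = 2) → ¬ (n = 4 ∧ q = 3) → Cfsg.Geo.InUnitaryResidualClass (m.hat A) → False

/-- orthogonal (all types, dimension at least 7, odd dimension only for odd `q`), not residual -/
def OrthNonRes : Prop := ∀ {Q : Type} [Group Q] [Finite Q], IsSimpleGroup Q → ∀ {A : Subgroup Q}
    {Γ : Subgroup (MulAut Q)}, EPT A Γ → ∀ {F : Type} [Field F] [Fintype F] {ι : Type} [Fintype ι] [DecidableEq ι]
    {Qf : (ι → F) → F} (m : Model Q (Cfsg.Geo.omegaGL Qf)), 7 ≤ Fintype.card ι →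
    Cfsg.Geo.IsNondegenerateQuadraticForm Qf → ¬ Cfsg.Geo.InOrthogonalResidualClass (m.hat A) → False

/-- orthogonal, residual -/
def OrthRes : Prop := ∀ {Q : Type} [Group Q] [Finite Q], IsSimpleGroup Q → ∀ {A : Subgroup Q}
    {Γ : Subgroup (MulAut Q)}, EPT A Γ → ∀ {F : Type} [Field F] [Fintype F] {ι : Type} [Fintype ι] [DecidableEq ι]
    {Qf : (ι → F) → F} (m : Model Q (Cfsg.Geo.omegaGL Qf)), 7 ≤ Fintype.card ι →
    Cfsg.Geo.IsNondegenerateQuadraticForm Qf → Cfsg.Geo.InOrthogonalResidualClass (m.hat A) → False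

end Cfsg.Agent.H419.EP
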