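import Cfsg.Agent.H419.EP.Soc
import Cfsg.Agent.H419.EP.Targets
import Cfsg.Agent.KFacts.RgdFilt
import Cfsg.Prelude.Def_Classification2

/-!
# S3499: the residual class in dimension at least 13 (helper419)

`Big A Γ S P` is the common situation of the layers V and VII. The target of these layers is `BigTarget`.
-/

set_option autoImplicit false

namespace Cfsg.Agent.H419.EP

open Subgroup Cfsg.Agent.H284
open scoped MatrixGroups

/-- The four kinds, with the lower bounds for the order `N = |Q|`. -/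
inductive BigKind {ι : Type} [Fintype ι] [DecidableEq ι] {F : Type} [Field F] [Fintype F] (S P : Subgroup (GL ι F))
    (N : ℕ) : Prop
  | lin (hS : S = Cfsg.Geo.specialLinear ι F)
      (ho : Fintype.card F ^ (Fintype.card ι ^ 2 - 2) ≤ N)
      (nq : ¬ ∃ Q : (ι → F) → F, Cfsg.Geo.IsNondegenerateQuadraticForm Q ∧ Cfsg.Geo.FixesQuadForm (Cfsg.Geo.matrixSet P) Q)
      (ns : ¬ ∃ f : (ι → F) → (ι → F) → F, Cfsg.Geo.IsSymplecticForm f ∧ Cfsg.Geo.FixesForm (Cfsg.Geo.matrixSet P) f)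
      (nu : ¬ ∃ (σ : F ≃+* F) (f : (ι → F) → (ι → F) → F), Cfsg.Geo.IsUnitaryForm σ f ∧
        Cfsg.Geo.FixesForm (Cfsg.Geo.matrixSet P) f) : BigKind S P N
  | sp (f : (ι → F) → (ι → F) → F) (hf : Cfsg.Geo.IsSymplecticForm f)
      (hS : Cfsg.Geo.FixesForm (Cfsg.Geo.matrixSet S) f) (h3 : 3 ≤ Fintype.card F)
      (ho : Fintype.card F ^ (Fintype.card ι * (Fintype.card ι + 1) / 2) ≤ 4 * N)
      (nq : ¬ ∃ Q : (ι → F) → F, Cfsg.Geo.IsNondegenerateQuadraticForm Q ∧ Cfsg.Geo.FixesQuadForm (Cfsg.Geo.matrixSet P) Q)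
      (nu : ¬ ∃ (σ : F ≃+* F) (f : (ι → F) → (ι → F) → F), Cfsg.Geo.IsUnitaryForm σ f ∧
        Cfsg.Geo.FixesForm (Cfsg.Geo.matrixSet P) f) : BigKind S P N
  | uni (q : ℕ) (hq : Fintype.card F = q ^ 2) (σ : F ≃+* F) (f : (ι → F) → (ι → F) → F)
      (hf : Cfsg.Geo.IsUnitaryForm σ f) (hS : Cfsg.Geo.FixesForm (Cfsg.Geo.matrixSet S) f)
      (hSL : S ≤ Cfsg.Geo.specialLinear ι F)
      (ho : q ^ (Fintype.card ι ^ 2 - 3) ≤ N)
      (nq : ¬ ∃ Q : (ι → F) → F, Cfsg.Geo.IsNondegenerateQuadraticForm Q ∧ Cfsg.Geo.FixesQuadForm (Cfsg.Geo.matrixSet P) Q)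
      (ns : ¬ ∃ f : (ι → F) → (ι → F) → F, Cfsg.Geo.IsSymplecticForm f ∧ Cfsg.Geo.FixesForm (Cfsg.Geo.matrixSet P) f) :
      BigKind S P N
  | orth (Qf : (ι → F) → F) (hQ : Cfsg.Geo.IsNondegenerateQuadraticForm Qf) (hS : S = Cfsg.Geo.omegaGL Qf)
      (ho : Fintype.card F ^ (Fintype.card ι * (Fintype.card ι - 1) / 2) ≤ 8 * N)
      (nu : ¬ ∃ (σ : F ≃+* F) (f : (ι → F) → (ι → F) → F), Cfsg.Geo.IsUnitaryForm σ f ∧
        Cfsg.Geo.FixesForm (Cfsg.Geo.matrixSet P) f) : BigKind S P N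

/-- The common situation in dimension `n = card ι ≥ 13`, `A` in the residual class with core `P`. -/
structure Big {Q : Type} [Group Q] [Finite Q] (A : Subgroup Q) (Γ : Subgroup (MulAut Q)) {ι : Type} [Fintype ι]
    [DecidableEq ι] {F : Type} [Field F] [Fintype F] (S P : Subgroup (GL ι F)) where
  m : Model Q S
  simple : IsSimpleGroup Q
  ept : EPT A Γ
  thirteen : 13 ≤ Fintype.card ι
  core : Cfsg.Geo.IsResidualCore (m.hat A) P
  kind : BigKind S P (Nat.card Q)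
  /-- `Q` is a group of Lie type in characteristic `char F` (root group datum with filtration) -/
  filt : Cfsg.Agent.KFacts.RgdFilt.HasFilt (ringChar F) Q

/-- the simple group `P / scalars` -/
abbrev socle {ι : Type} [Fintype ι] [DecidableEq ι] {F : Type} [Field F] (P : Subgroup (GL ι F)) : Type :=
  P ⧸ (Cfsg.Geo.scalars ι F).subgroupOf P

namespace Big

variable {Q : Type} [Group Q] [Finite Q] {A : Subgroup Q} {Γ : Subgroup (MulAut Q)} {ι : Type} [Fintype ι]
    [DecidableEq ι] {F : Type} [Field F] [Fintype F] {S P : Subgroup (GL ι F)}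

theorem hasSoc (b : Big A Γ S P) : HasSoc A (socle P) := hasSoc_of_core b.m b.core

theorem hasSoc' (b : Big A Γ S P) {L : Type} [Group L] (e : socle P ≃* L) : HasSoc A L := b.hasSoc.congr e

theorem two_le (b : Big A Γ S P) : 2 ≤ Fintype.card F := Fintype.one_lt_card

/-- the common order bound -/
theorem ord (b : Big A Γ S P) :
    Fintype.card F ^ (Fintype.card ι * (Fintype.card ι - 1) / 2) ≤ 8 * Nat.card Q := by
  have hn := b.thirteen
  have hF : 2 ≤ Fintype.card F := Fintype.one_lt_card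
  obtain ⟨k, hk⟩ : ∃ k, Fintype.card ι = k + 13 := ⟨Fintype.card ι - 13, by omega⟩
  have hdiv : Fintype.card ι * (Fintype.card ι - 1) / 2 * 2 = Fintype.card ι * (Fintype.card ι - 1) :=
    Nat.div_mul_cancel (Nat.even_mul_pred_self _).two_dvd
  rcases b.kind with ⟨-, ho, -, -, -⟩ | ⟨f, -, -, -, ho, -, -⟩ | ⟨q, hq, σ, f, -, -, -, ho, -, -⟩ |
    ⟨Qf, -, -, ho, -⟩
  · refine le_trans (Nat.pow_le_pow_right (by omega) ?_) (ho.trans (by omega))
    rw [hk] at hdiv ⊢
    have h1 : (k + 13) * (k + 13 - 1) = k ^ 2 + 25 * k + 156 := by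
      have : k + 13 - 1 = k + 12 := by omega
      rw [this]; ring
    have h2 : (k + 13) ^ 2 = k ^ 2 + 26 * k + 169 := by ring
    rw [h1] at hdiv ⊢
    rw [h2]
    omega
  · refine le_trans (Nat.pow_le_pow_right (by omega) ?_) (ho.trans (by omega))
    apply Nat.div_le_div_right
    exact Nat.mul_le_mul_left _ (by omega)
  · have h3 : Fintype.card F ^ (Fintype.card ι * (Fintype.card ι - 1) / 2)
        = q ^ (Fintype.card ι * (Fintype.card ι - 1)) := by
      rw [hq, ← pow_mul]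
      congr 1
      omega
    rw [h3]
    have hq1 : 1 ≤ q := by
      rcases Nat.eq_zero_or_pos q with h | h
      · rw [h] at hq
        simp at hq
      · exact h
    refine le_trans (Nat.pow_le_pow_right hq1 ?_) (ho.trans (by omega))
    rw [hk]
    have h1 : (k + 13) * (k + 13 - 1) = k ^ 2 + 25 * k + 156 := by
      have : k + 13 - 1 = k + 12 := by omega
      rw [this]; ring
    have h2 : (k + 13) ^ 2 = k ^ 2 + 26 * k + 169 := by ring
    rw [h1, h2]
    omega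
  · exact ho

/-- `2 ^ 78 ≤ 8 |Q|` at least -/
theorem ord_two (b : Big A Γ S P) {N : ℕ} (hN : N ≤ Fintype.card ι) :
    2 ^ (N * (N - 1) / 2) ≤ 8 * Nat.card Q := by
  refine le_trans ?_ b.ord
  refine le_trans (Nat.pow_le_pow_left b.two_le _) (Nat.pow_le_pow_right (by have := b.two_le; omega) ?_)
  apply Nat.div_le_div_right
  exact Nat.mul_le_mul hN (by omega)

/-- the core lies in `S` -/
theorem le_S (b : Big A Γ S P) : P ≤ S := b.core.le.trans (b.m.hat_le A)

end Big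

/-- The target of the layers V, VII. -/
def BigTarget : Prop := ∀ {Q : Type} [Group Q] [Finite Q] {A : Subgroup Q} {Γ : Subgroup (MulAut Q)} {ι : Type}
    [Fintype ι] [DecidableEq ι] {F : Type} [Field F] [Fintype F] {S P : Subgroup (GL ι F)}, Big A Γ S P → False

/-- `BigOf X`: the part of `BigTarget` for the socles with property `X`. -/
def BigOf (X : (L : Type) → [Group L] → Prop) : Prop := ∀ {Q : Type} [Group Q] [Finite Q] {A : Subgroup Q}
    {Γ : Subgroup (MulAut Q)} {ι : Type} [Fintype ι] [DecidableEq ι] {F : Type} [Field F] [Fintype F]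
    {S P : Subgroup (GL ι F)}, Big A Γ S P → X (socle P) → False

/-- same characteristic: `char F = char K` -/
def SameChar (F K : Type) [Field F] [Field K] : Prop := ringChar F = ringChar K

/-- socle `PSL`, the field `K` of the socle in the same characteristic as `F` -/
def OwnPSL : Prop := ∀ {Q : Type} [Group Q] [Finite Q] {A : Subgroup Q}
    {Γ : Subgroup (MulAut Q)} {ι : Type} [Fintype ι] [DecidableEq ι] {F : Type} [Field F] [Fintype F]
    {S P : Subgroup (GL ι F)}, Big A Γ S P → ∀ (K : Type) [Field K] [Fintype K] (d : ℕ), 2 ≤ d →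
    (d = 2 → 4 ≤ Fintype.card K) → ringChar F = ringChar K →
    Nonempty (socle P ≃* Matrix.ProjectiveSpecialLinearGroup (Fin d) K) → False

def CrossPSL : Prop := ∀ {Q : Type} [Group Q] [Finite Q] {A : Subgroup Q}
    {Γ : Subgroup (MulAut Q)} {ι : Type} [Fintype ι] [DecidableEq ι] {F : Type} [Field F] [Fintype F]
    {S P : Subgroup (GL ι F)}, Big A Γ S P → ∀ (K : Type) [Field K] [Fintype K] (d : ℕ), 2 ≤ d →
    (d = 2 → 4 ≤ Fintype.card K) → ringChar F ≠ ringChar K →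
    Nonempty (socle P ≃* Matrix.ProjectiveSpecialLinearGroup (Fin d) K) → False

def OwnPSp : Prop := ∀ {Q : Type} [Group Q] [Finite Q] {A : Subgroup Q}
    {Γ : Subgroup (MulAut Q)} {ι : Type} [Fintype ι] [DecidableEq ι] {F : Type} [Field F] [Fintype F]
    {S P : Subgroup (GL ι F)}, Big A Γ S P → ∀ (K : Type) [Field K] [Fintype K] (d : ℕ), 2 ≤ d →
    (d = 2 → 3 ≤ Fintype.card K) → ringChar F = ringChar K → Nonempty (socle P ≃* Cfsg.PSp d K) → False

def CrossPSp : Prop := ∀ {Q : Type} [Group Q] [Finite Q] {A : Subgroup Q}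
    {Γ : Subgroup (MulAut Q)} {ι : Type} [Fintype ι] [DecidableEq ι] {F : Type} [Field F] [Fintype F]
    {S P : Subgroup (GL ι F)}, Big A Γ S P → ∀ (K : Type) [Field K] [Fintype K] (d : ℕ), 2 ≤ d →
    (d = 2 → 3 ≤ Fintype.card K) → ringChar F ≠ ringChar K → Nonempty (socle P ≃* Cfsg.PSp d K) → False

def OwnPSU : Prop := ∀ {Q : Type} [Group Q] [Finite Q] {A : Subgroup Q}
    {Γ : Subgroup (MulAut Q)} {ι : Type} [Fintype ι] [DecidableEq ι] {F : Type} [Field F] [Fintype F]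
    {S P : Subgroup (GL ι F)}, Big A Γ S P → ∀ (K : Type) [Field K] [Fintype K] (d q : ℕ), Fintype.card K = q ^ 2 →
    3 ≤ d → ¬ (d = 3 ∧ q = 2) → ringChar F = ringChar K → Nonempty (socle P ≃* Cfsg.PSU d K q) → False

def CrossPSU : Prop := ∀ {Q : Type} [Group Q] [Finite Q] {A : Subgroup Q}
    {Γ : Subgroup (MulAut Q)} {ι : Type} [Fintype ι] [DecidableEq ι] {F : Type} [Field F] [Fintype F]
    {S P : Subgroup (GL ι F)}, Big A Γ S P → ∀ (K : Type) [Field K] [Fintype K] (d q : ℕ), Fintype.card K = q ^ 2 →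
    3 ≤ d → ¬ (d = 3 ∧ q = 2) → ringChar F ≠ ringChar K → Nonempty (socle P ≃* Cfsg.PSU d K q) → False

/-- the three orthogonal families over `K`, own characteristic -/
def OwnPOmega : Prop := ∀ {Q : Type} [Group Q] [Finite Q] {A : Subgroup Q}
    {Γ : Subgroup (MulAut Q)} {ι : Type} [Fintype ι] [DecidableEq ι] {F : Type} [Field F] [Fintype F]
    {S P : Subgroup (GL ι F)}, Big A Γ S P → ∀ (K : Type) [Field K] [Fintype K] (d : ℕ), ringChar F = ringChar K →
    ((3 ≤ d ∧ Odd (Fintype.card K) ∧ Nonempty (socle P ≃* Cfsg.POmega K (Cfsg.quadFormOdd d K))) ∨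
      (4 ≤ d ∧ Nonempty (socle P ≃* Cfsg.POmega K (Cfsg.quadFormPlus d K))) ∨
      (∃ a b : K, 4 ≤ d ∧ (∀ z₁ z₂ : K, z₁ ^ 2 + a * z₁ * z₂ + b * z₂ ^ 2 = 0 → z₁ = 0 ∧ z₂ = 0) ∧
        Nonempty (socle P ≃* Cfsg.POmega K (Cfsg.quadFormMinus (d - 1) K a b)))) → False

/-- the three orthogonal families over `K`, cross characteristic -/
def CrossPOmega : Prop := ∀ {Q : Type} [Group Q] [Finite Q] {A : Subgroup Q}
    {Γ : Subgroup (MulAut Q)} {ι : Type} [Fintype ι] [DecidableEq ι] {F : Type} [Field F] [Fintype F]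
    {S P : Subgroup (GL ι F)}, Big A Γ S P → ∀ (K : Type) [Field K] [Fintype K] (d : ℕ), ringChar F ≠ ringChar K →
    ((3 ≤ d ∧ Odd (Fintype.card K) ∧ Nonempty (socle P ≃* Cfsg.POmega K (Cfsg.quadFormOdd d K))) ∨
      (4 ≤ d ∧ Nonempty (socle P ≃* Cfsg.POmega K (Cfsg.quadFormPlus d K))) ∨
      (∃ a b : K, 4 ≤ d ∧ (∀ z₁ z₂ : K, z₁ ^ 2 + a * z₁ * z₂ + b * z₂ ^ 2 = 0 → z₁ = 0 ∧ z₂ = 0) ∧
        Nonempty (socle P ≃* Cfsg.POmega K (Cfsg.quadFormMinus (d - 1) K a b)))) → False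

/-- **Assembly of the layers V and VII** by the classification (`hK`). -/
theorem bigTarget_of (hK : ∀ {G : Type} [Group G] [Finite G], IsSimpleGroup G → Cfsg.IsKnownSimple' G)
    (alt : BigOf (fun L _ => Cfsg.IsAlternating L))
    (ol : OwnPSL) (cl : CrossPSL) (os : OwnPSp) (cs : CrossPSp) (ou : OwnPSU) (cu : CrossPSU)
    (oo : OwnPOmega) (co : CrossPOmega) (ex : BigOf (fun L _ => Cfsg.IsExceptionalLieType L))
    (sp : BigOf (fun L _ => Cfsg.IsSporadicGroup L)) : BigTarget := by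
  intro Q _ _ A Γ ι _ _ F _ _ S P b
  haveI : Finite (socle P) := by
    haveI : Finite (GL ι F) := inferInstance
    haveI : Finite P := inferInstance
    exact Quotient.finite _
  rcases hK b.core.simple with h | h | h | h | h | h | h | h | h | h
  · exact b.core.nonabelian (by
      haveI : Fact (Nat.card (socle P)).Prime := ⟨h⟩
      haveI : IsCyclic (socle P) := isCyclic_of_prime_card rfl
      exact ⟨⟨fun x y => by
        obtain ⟨g, hg⟩ := IsCyclic.exists_generator (α := socle P)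
        obtain ⟨i, rfl⟩ := Subgroup.mem_zpowers_iff.1 (hg x)
        obtain ⟨j, rfl⟩ := Subgroup.mem_zpowers_iff.1 (hg y)
        exact ((Commute.refl g).zpow_zpow i j).eq⟩⟩)
  · exact alt b h
  · obtain ⟨K, _, _, d, h1, h2, h3⟩ := h
    by_cases hc : ringChar F = ringChar K
    · exact ol b K d h1 h2 hc h3
    · exact cl b K d h1 h2 hc h3
  · obtain ⟨K, _, _, d, h1, h2, h3⟩ := h
    by_cases hc : ringChar F = ringChar K
    · exact os b K d h1 h2 hc h3
    · exact cs b K d h1 h2 hc h3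
  · obtain ⟨K, _, _, d, q, h1, h2, h3, h4⟩ := h
    by_cases hc : ringChar F = ringChar K
    · exact ou b K d q h1 h2 h3 hc h4
    · exact cu b K d q h1 h2 h3 hc h4
  · obtain ⟨K, _, _, d, h1, h2, h3⟩ := h
    by_cases hc : ringChar F = ringChar K
    · exact oo b K d hc (Or.inl ⟨h1, h2, h3⟩)
    · exact co b K d hc (Or.inl ⟨h1, h2, h3⟩)
  · obtain ⟨K, _, _, d, h1, h3⟩ := h
    by_cases hc : ringChar F = ringChar K
    · exact oo b K d hc (Or.inr (Or.inl ⟨h1, h3⟩))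
    · exact co b K d hc (Or.inr (Or.inl ⟨h1, h3⟩))
  · obtain ⟨K, _, _, d, x, y, h1, h2, h3⟩ := h
    by_cases hc : ringChar F = ringChar K
    · exact oo b K d hc (Or.inr (Or.inr ⟨x, y, h1, h2, h3⟩))
    · exact co b K d hc (Or.inr (Or.inr ⟨x, y, h1, h2, h3⟩))
  · exact ex b h
  · exact sp b h

/-! ### Residual targets in dimension at most 12 and the reduction -/

/-- linear, residual, dimension at most 12 -/
def PslRes12 : Prop := ∀ {Q : Type} [Group Q] [Finite Q], IsSimpleGroup Q → ∀ {A : Subgroup Q}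
    {Γ : Subgroup (MulAut Q)}, EPT A Γ → ∀ {F : Type} [Field F] [Fintype F] {n : ℕ}
    (m : Model Q (Cfsg.Geo.specialLinear (Fin n) F)), 3 ≤ n → n ≤ 12 → ¬ (n = 3 ∧ Fintype.card F = 2) →
    ¬ (n = 3 ∧ Fintype.card F = 4) → ¬ (n = 4 ∧ Fintype.card F = 2) → Cfsg.Geo.InLinearResidualClass (m.hat A) → False

def PspRes12 : Prop := ∀ {Q : Type} [Group Q] [Finite Q], IsSimpleGroup Q → ∀ {A : Subgroup Q}
    {Γ : Subgroup (MulAut Q)}, EPT A Γ → ∀ {F : Type} [Field F] [Fintype F] {k : ℕ}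
    (m : Model Q (Cfsg.spGL k F)), 2 ≤ k → k ≤ 6 → 3 ≤ Fintype.card F →
    Cfsg.Geo.InSymplecticResidualClass (m.hat A) → False

def PsuRes12 : Prop := ∀ {Q : Type} [Group Q] [Finite Q], IsSimpleGroup Q → ∀ {A : Subgroup Q}
    {Γ : Subgroup (MulAut Q)}, EPT A Γ → ∀ {F : Type} [Field F] [Fintype F] {n q : ℕ}
    (m : Model Q (Cfsg.GU n F q ⊓ Cfsg.Geo.specialLinear (Fin n) F)), Fintype.card F = q ^ 2 → 3 ≤ n → n ≤ 12 →
    ¬ (n = 3 ∧ q = 2) → ¬ (n = 4 ∧ q = 3) → Cfsg.Geo.InUnitaryResidualClass (m.hat A) → False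

def OrthRes12 : Prop := ∀ {Q : Type} [Group Q] [Finite Q], IsSimpleGroup Q → ∀ {A : Subgroup Q}
    {Γ : Subgroup (MulAut Q)}, EPT A Γ → ∀ {F : Type} [Field F] [Fintype F] {ι : Type} [Fintype ι] [DecidableEq ι]
    {Qf : (ι → F) → F} (m : Model Q (Cfsg.Geo.omegaGL Qf)), 7 ≤ Fintype.card ι → Fintype.card ι ≤ 12 →
    Cfsg.Geo.IsNondegenerateQuadraticForm Qf → Cfsg.Geo.InOrthogonalResidualClass (m.hat A) → False

/-- orders in dimension at least 13 -/
def OrdLin : Prop := ∀ {Q : Type} [Group Q] [Finite Q] {F : Type} [Field F] [Fintype F] {n : ℕ}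
    (_m : Model Q (Cfsg.Geo.specialLinear (Fin n) F)), 13 ≤ n → Fintype.card F ^ (n ^ 2 - 2) ≤ Nat.card Q

def OrdSp : Prop := ∀ {Q : Type} [Group Q] [Finite Q] {F : Type} [Field F] [Fintype F] {k : ℕ}
    (_m : Model Q (Cfsg.spGL k F)), 7 ≤ k → Fintype.card F ^ (k * (2 * k + 1)) ≤ 4 * Nat.card Q

def OrdUni : Prop := ∀ {Q : Type} [Group Q] [Finite Q] {F : Type} [Field F] [Fintype F] {n q : ℕ}
    (_m : Model Q (Cfsg.GU n F q ⊓ Cfsg.Geo.specialLinear (Fin n) F)), Fintype.card F = q ^ 2 → 13 ≤ n →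
    q ^ (n ^ 2 - 3) ≤ Nat.card Q

def OrdOrth : Prop := ∀ {Q : Type} [Group Q] [Finite Q] {F : Type} [Field F] [Fintype F] {ι : Type} [Fintype ι]
    [DecidableEq ι] {Qf : (ι → F) → F} (_m : Model Q (Cfsg.Geo.omegaGL Qf)), 13 ≤ Fintype.card ι →
    Cfsg.Geo.IsNondegenerateQuadraticForm Qf →
    Fintype.card F ^ (Fintype.card ι * (Fintype.card ι - 1) / 2) ≤ 8 * Nat.card Q

end Cfsg.Agent.H419.EP
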