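import Cfsg.Agent.H419.EP.Final
import Cfsg.Agent.H117.EP.ModelPSL
import Cfsg.Agent.H729.EPM.PSp
import Cfsg.Agent.H775.EP.ModelOmega
import Cfsg.Agent.S0243

/-!
# S3499: the models and the order of `PSL₃(2)` (helper419)
-/

set_option autoImplicit false

namespace Cfsg.Agent.H419.EP

/-- all the models -/
theorem models : Models where
  psl n hn := Cfsg.Agent.H117.EP.model_PSL hn
  psp k hk := Cfsg.Agent.H729.EPM.nonempty_model_psp hk
  psu n q hF hn := Cfsg.Agent.H117.EP.model_PSU hF hn
  orth h hQ := Cfsg.Agent.H775.EP.model_omega hQ (by omega)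
  odd k h := Cfsg.Agent.H775.EP.nd_odd k _ (Cfsg.Agent.H775.EP.two_ne_zero_of_odd h)
  plus k := Cfsg.Agent.H775.EP.nd_plus k _
  minus k a b h := Cfsg.Agent.H775.EP.nd_minus k _ a b h

theorem card_psl_three_two {F : Type} [Field F] [Fintype F] (h2 : Fintype.card F = 2) :
    Nat.card (Matrix.ProjectiveSpecialLinearGroup (Fin 3) F) = 168 := by
  have h := Cfsg.Agent.S0243.result (F := F) h2 3 (by norm_num)
  rw [Fin.prod_univ_three] at h
  norm_num at h
  omega

end Cfsg.Agent.H419.EP
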