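import Cfsg.Agent.H419.EP.AllModels
import Cfsg.Agent.H419.EP.BigRed
import Cfsg.Agent.H568.EP.Ord
import Cfsg.Agent.H91.EP.PslN
import Cfsg.Agent.H111.EP.SpRows
import Cfsg.Agent.H419.EP.PsuN

/-!
# S3499: the targets from the assemblies (helper419)
-/

set_option autoImplicit false

namespace Cfsg.Agent.H419.EP

/-- all eight targets from the geometric layer, dimension at most 12 and `BigTarget` -/
theorem targets_of (orthN : OrthNonRes)
    (r1 : PslRes12) (r2 : PspRes12) (r3 : PsuRes12) (r4 : OrthRes12) (big : BigTarget) : Targets where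
  pslN := Cfsg.Agent.H91.EP.pslNonRes
  pslR := pslRes_of r1 Cfsg.Agent.H568.EP.ordLin big
  pspN := Cfsg.Agent.H111.EP.pspNonRes
  pspR := pspRes_of r2 Cfsg.Agent.H568.EP.ordSp big
  psuN := psuNonRes
  psuR := psuRes_of r3 Cfsg.Agent.H568.EP.ordUni big
  orthN := orthN
  orthR := orthRes_of r4 Cfsg.Agent.H568.EP.ordOrth big

/-- the final theorem from the targets -/
theorem final_of (ht : Targets) {G : Type*} [Group G] [Finite G] {Ω : Type*} [Fintype Ω] [MulAction G Ω]
    [FaithfulSMul G Ω] (T : Subgroup G) [T.Normal] (hT : IsSimpleGroup T) (hTc : ¬ IsMulCommutative T)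
    (hC : Subgroup.centralizer (T : Set G) = ⊥)
    (hcl : (Cfsg.IsPSL T ∨ Cfsg.IsPSp T ∨ Cfsg.IsPSU T ∨ Cfsg.IsPOmegaOdd T ∨ Cfsg.IsPOmegaPlus T ∨ Cfsg.IsPOmegaMinus T))
    (hprim : MulAction.IsPreprimitive G Ω) (hH : ∀ α : Ω, MulAction.stabilizer G α ≠ ⊥)
    (hep : ∀ (α : Ω) (ω : Ω), MulAction.IsPreprimitive (MulAction.stabilizer G α) (MulAction.orbit (MulAction.stabilizer G α) ω)) :
    Concl T :=
  main_of models ht card_psl_three_two T hT hTc hC hcl hprim hH hep

end Cfsg.Agent.H419.EP
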