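import Cfsg.Agent.H419.EP.BigFinTwo
import Cfsg.Agent.H775.EPS.SuzFin

/-!
# S3499: `BigTarget`, everything discharged (helper419)
-/

set_option autoImplicit false

namespace Cfsg.Agent.H419.EP

theorem known_simple {G : Type} [Group G] [Finite G] (h : IsSimpleGroup G) : Cfsg.IsKnownSimple' G := by
  haveI := h
  exact Cfsg.Agent.S0000.result

theorem bigTarget_all : BigTarget :=
  bigTarget_two Cfsg.Agent.H775.EPS.twoGen_all Cfsg.Agent.H775.EPS.invGen_all Cfsg.Agent.H775.EPS.even_of_simple
    (fun _ _ _ _ => Cfsg.Agent.S0000.result) (fun h => known_simple h)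

end Cfsg.Agent.H419.EP
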