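import Cfsg.Agent.H419.EP.Big
import Cfsg.Agent.H545.EA.Fin
import Cfsg.Agent.H212.NM.Ten
import Cfsg.Agent.H904.EPV.PSL
import Cfsg.Agent.H354.EPV.Final
import Cfsg.Agent.H376.EP.OmMain
import Cfsg.Agent.H414.EPV.EThree
import Cfsg.Agent.H414.EPV.UniFin
import Cfsg.Agent.H855.EP.AsmExc
import Cfsg.Agent.H688.EP.SporAsm
import Cfsg.Agent.H987.EP.OwnFin
import Cfsg.Agent.H274.EPO.OwnO
import Cfsg.Agent.H947.EPO.PPlus

/-!
# S3499: `BigTarget` from the remaining pieces (helper419)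
-/

set_option autoImplicit false

namespace Cfsg.Agent.H419.EP

theorem ownPOmega (hg : Cfsg.Agent.H59.EP.TwoGen.{0}) : OwnPOmega :=
  Cfsg.Agent.H274.EPO.ownPOmega_of_plus hg fun b K _ _ d hd hK hc e =>
    Cfsg.Agent.H947.EPO.own_pplus_two hg b K hc hK d hd e

theorem bigTarget_fin (hg : Cfsg.Agent.H59.EP.TwoGen.{0})
    (hK : ∀ {G : Type} [Group G] [Finite G], IsSimpleGroup G → Cfsg.IsKnownSimple' G)
    (ea11 : Cfsg.Agent.H545.EA.EA11) (os : OwnPSp) (ou : OwnPSU)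
    (lk : Cfsg.Agent.H855.EP.LeftKill) (w : Cfsg.Agent.H688.EP.Missing) : BigTarget :=
  bigTarget_of hK (Cfsg.Agent.H545.EA.alt Cfsg.Agent.H212.NM.ea10 ea11 hg) (Cfsg.Agent.H987.EP.ownPSL hg)
    (Cfsg.Agent.H904.EPV.crossPSL hg) os (Cfsg.Agent.H354.EPV.cross_psp hg) ou (Cfsg.Agent.H414.EPV.crossPSU hg)
    (ownPOmega hg) (Cfsg.Agent.H376.EP.crossPOmega_of hg Cfsg.Agent.H414.EPV.e3)
    (Cfsg.Agent.H855.EP.bigOf_exceptional_of hg lk) (Cfsg.Agent.H688.EP.bigOf_sporadic_of hg w)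

end Cfsg.Agent.H419.EP
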