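import Cfsg.Agent.H419.EP.BigFin
import Cfsg.Agent.H128.EA.ElevenFin
import Cfsg.Agent.H532.EP.Final
import Cfsg.Agent.H765.EPS.HTwo
import Cfsg.Agent.H69.EP.OwnPSUFin
import Cfsg.Agent.H855.EP.LeftFin
import Cfsg.Agent.H688.EP.SporAsm3

/-!
# S3499: `BigTarget` (helper419)
-/

set_option autoImplicit false

namespace Cfsg.Agent.H419.EP

open scoped MatrixGroups

theorem bigTarget_two (hg : Cfsg.Agent.H59.EP.TwoGen.{0}) (hI : Cfsg.Agent.H775.EPS.InvGen.{0} 448345497600 250000)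
    (hev : ∀ (X : Type) [Group X] [Finite X], IsSimpleGroup X → ¬ Group.IsSolvable X → 2 ∣ Nat.card X)
    (hAK : Cfsg.Agent.H995.CopEngine.AllKnown.{0})
    (hK : ∀ {G : Type} [Group G] [Finite G], IsSimpleGroup G → Cfsg.IsKnownSimple' G) : BigTarget :=
  bigTarget_of hK (Cfsg.Agent.H545.EA.alt Cfsg.Agent.H212.NM.ea10 Cfsg.Agent.H128.EA.ea11 hg)
    (Cfsg.Agent.H987.EP.ownPSL hg) (Cfsg.Agent.H904.EPV.crossPSL hg)
    (Cfsg.Agent.H532.EP.ownPSp hg)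
    (Cfsg.Agent.H354.EPV.cross_psp hg) (Cfsg.Agent.H69.EP.ownPSU hg)
    (Cfsg.Agent.H414.EPV.crossPSU hg) (ownPOmega hg) (Cfsg.Agent.H376.EP.crossPOmega_of hg Cfsg.Agent.H414.EPV.e3)
    (Cfsg.Agent.H855.EP.bigOf_exceptional hg)
    (Cfsg.Agent.H688.EP.bigOf_sporadic_of_known hg hI hev hAK)

end Cfsg.Agent.H419.EP
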