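import Cfsg.Agent.H419.EP.Asm
import Cfsg.Agent.H419.EP.BigAll
import Cfsg.Agent.H91.EP.OmN
import Cfsg.Agent.H503.EPA.PslRows
import Cfsg.Agent.H646.EPR.PspDone
import Cfsg.Agent.H481.EP12.Psu
import Cfsg.Agent.H982.EP.OmFin

/-!
# S3499: all eight targets (helper419)
-/

set_option autoImplicit false

namespace Cfsg.Agent.H419.EP

/-- **All targets.** -/
theorem targets : Targets :=
  targets_of Cfsg.Agent.H91.EP.orthNonRes Cfsg.Agent.H503.EPA.pslRes12 Cfsg.Agent.H646.EPR.pspRes12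
    Cfsg.Agent.H481.EP12.psuRes12 Cfsg.Agent.H982.EP.orthRes12 bigTarget_all

end Cfsg.Agent.H419.EP
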